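import Groth.Agent.FibDim.MaxPoints
import Groth.Agent.FibreDim.Tau

/-! Residue transcendence degree of a point of a fibre = dimension of its closure in the fibre. -/

universe u

open AlgebraicGeometry CategoryTheory Limits

namespace Groth.Agent.FibreTrdeg

theorem exists_trdeg_fibre {X Y : Scheme.{u}} (f : X ⟶ Y) [LocallyOfFiniteType f] (y : Y) (x0 : f.fiber y) :
    ∃ n : ℕ, (letI := (f.residueFieldMap (f.fiberι y x0)).hom.toAlgebra
      Algebra.trdeg (Y.residueField (f (f.fiberι y x0))) (X.residueField (f.fiberι y x0))) = n ∧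
      topologicalKrullDim (closure ({x0} : Set (f.fiber y))) = n := by
  let g := f.fiberToSpecResidueField y
  have hg : LocallyOfFiniteType g := MorphismProperty.of_isPullback (P := @LocallyOfFiniteType) (IsPullback.of_hasPullback f (Y.fromSpecResidueField y)) ‹_›
  let ψ : Y.residueField y ⟶ (f.fiber y).residueField x0 := Spec.preimage ((f.fiber y).fromSpecResidueField x0 ≫ g)
  have hψ : Spec.map ψ = (f.fiber y).fromSpecResidueField x0 ≫ g := Spec.map_preimage _
  obtain ⟨n, hn, hn'⟩ := FibDim.exists_trdeg (k := Y.residueField y) g x0 ψ hψ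
  refine ⟨n, ?_, hn'⟩
  have hxy : f (f.fiberι y x0) = y := by
    have : f.fiberι y x0 ∈ f ⁻¹' {y} := (f.range_fiberι y).le ⟨x0, rfl⟩
    exact this
  let b := (f.fiberι y).residueFieldMap x0
  have hbij : Function.Bijective b.hom := by
    refine ⟨RingHom.injective _, fun z => ?_⟩
    obtain ⟨s, rfl⟩ := (f.fiber y).residue_surjective x0 z
    obtain ⟨t, rfl⟩ := (f.fiberι y).stalkMap_surjective x0 s
    exact ⟨X.residue _ t, rfl⟩
  let e := Y.residueFieldCongr hxy
  have hcomp : f.residueFieldMap (f.fiberι y x0) ≫ b = e.hom ≫ ψ := Spec.map_injective (by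
    rw [Spec.map_comp, Spec.map_comp, hψ, ← cancel_mono (Y.fromSpecResidueField (f (f.fiberι y x0))),
      Category.assoc, Scheme.Hom.SpecMap_residueFieldMap_fromSpecResidueField, ← Category.assoc,
      Scheme.Hom.SpecMap_residueFieldMap_fromSpecResidueField, Category.assoc, Category.assoc,
      Scheme.residueFieldCongr_fromSpecResidueField, Category.assoc]
    congr 1
    exact pullback.condition)
  letI := (f.residueFieldMap (f.fiberι y x0)).hom.toAlgebra
  letI := ψ.hom.toAlgebra
  refine (FibreDim.trdeg_eq_of_ringEquiv e.commRingCatIsoToRingEquiv (RingEquiv.ofBijective b.hom hbij) fun r => ?_).trans hn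
  exact (congrArg (fun φ => φ.hom r) hcomp).symm

end Groth.Agent.FibreTrdeg
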